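import Mathlib
import Groth.Prelude.Def_W4c2filtblowupsingRees

set_option autoImplicit false
set_option linter.unusedSectionVars false
set_option linter.unusedVariables false
set_option linter.unusedSimpArgs false
set_option linter.style.haveILetI false
set_option maxHeartbeats 400000

/-!
# The Rees algebra of a filtration defined by valuations is integrally closed
-/

namespace Groth.Agent.Lib.Helper6.ReesIC

open Polynomial

section Generic

/-- Integrality is transported by a ring hom mapping the small ring into the image of another. -/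
theorem isIntegral_map_of_lifts {R S R' S' : Type*} [CommRing R] [CommRing S] [Algebra R S]
    [CommRing R'] [CommRing S'] [Algebra R' S']
    (φ : S →+* S') (h : ∀ r : R, ∃ r' : R', algebraMap R' S' r' = φ (algebraMap R S r))
    {x : S} (hx : IsIntegral R x) : IsIntegral R' (φ x) := by
  obtain ⟨P, hP, hPx⟩ := hx
  choose g hg using h
  let Q : R'[X] := X ^ P.natDegree + ∑ i ∈ Finset.range P.natDegree, C (g (P.coeff i)) * X ^ i
  refine ⟨Q, ?_, ?_⟩
  · apply Polynomial.monic_X_pow_add
    refine lt_of_le_of_lt (Polynomial.degree_sum_le _ _) ?_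
    rw [Finset.sup_lt_iff (WithBot.bot_lt_coe _)]
    intro i hi
    refine lt_of_le_of_lt (Polynomial.degree_C_mul_X_pow_le _ _) ?_
    exact_mod_cast Finset.mem_range.mp hi
  · have h1 := congrArg φ hPx
    rw [map_zero] at h1
    conv_lhs at h1 => rw [hP.as_sum]
    rw [eval₂_add, eval₂_pow, eval₂_X, eval₂_finsetSum, map_add, map_pow, map_sum] at h1
    rw [eval₂_add, eval₂_pow, eval₂_X, eval₂_finsetSum, ← h1]
    congr 1
    refine Finset.sum_congr rfl fun i _ => ?_
    rw [eval₂_mul, eval₂_C, eval₂_pow, eval₂_X, eval₂_mul, eval₂_C, eval₂_pow, eval₂_X, map_mul,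
      map_pow, hg]

end Generic

section Phi

variable {A : Type*} [CommRing A]

/-- `X ↦ X t` : `A[X] → A[X][t]`. -/
noncomputable def Phi : A[X] →+* A[X][X] := eval₂RingHom (C.comp C) (C X * X)

theorem Phi_monomial (n : ℕ) (a : A) : Phi (monomial n a) = monomial n (monomial n a) := by
  rw [Phi, coe_eval₂RingHom, eval₂_monomial, RingHom.comp_apply, mul_pow, ← C_pow, ← mul_assoc,
    ← C_mul, C_mul_X_pow_eq_monomial, C_mul_X_pow_eq_monomial]

theorem Phi_coeff (p : A[X]) (k : ℕ) : (Phi p).coeff k = monomial k (p.coeff k) := by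
  induction p using Polynomial.induction_on' with
  | add p q hp hq => rw [map_add, coeff_add, hp, hq, coeff_add, map_add]
  | monomial n a =>
    rw [Phi_monomial, coeff_monomial, coeff_monomial]
    by_cases h : n = k
    · subst h
      rw [if_pos rfl, if_pos rfl]
    · rw [if_neg h, if_neg h, map_zero]

end Phi

section Mono

variable {A : Type*} [CommRing A] [Nontrivial A]

/-- A monomial integral over the Rees algebra gives a weighted integral equation. -/
theorem exists_eq_of_isIntegral_monomial (𝓕 : FiltBl.IdealFiltration A) (k : ℕ) (a : A)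
    (h : IsIntegral 𝓕.rees (monomial k a : A[X])) :
    ∃ (n : ℕ) (c : ℕ → A), 0 < n ∧ (∀ j, j < n → c j ∈ 𝓕.F ((n - j) * k)) ∧
      a ^ n + ∑ j ∈ Finset.range n, c j * a ^ j = 0 := by
  obtain ⟨P, hP, hPx⟩ := h
  set n := P.natDegree with hn
  let c : ℕ → A := fun j => ((P.coeff j : 𝓕.rees) : A[X]).coeff ((n - j) * k)
  have hkey : a ^ n + ∑ j ∈ Finset.range n, c j * a ^ j = 0 := by
    rw [eval₂_eq_sum_range] at hPx
    have h1 := congrArg (fun f : A[X] => f.coeff (n * k)) hPx
    simp only [coeff_zero, finsetSum_coeff] at h1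
    rw [← hn, Finset.sum_range_succ] at h1
    rw [add_comm]
    convert h1 using 2
    · refine Finset.sum_congr rfl fun j hj => ?_
      have hj' : j < n := Finset.mem_range.mp hj
      rw [monomial_pow]
      have : n * k = (n - j) * k + k * j := by
        rw [mul_comm k j, ← add_mul]
        congr 1
        omega
      rw [this, coeff_mul_monomial]
      rfl
    · rw [monomial_pow]
      have h2 : P.coeff n = 1 := hP.coeff_natDegree
      rw [h2, map_one, one_mul, mul_comm k n, coeff_monomial, if_pos rfl]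
  refine ⟨n, c, ?_, fun j _ => ((P.coeff j).2 ((n - j) * k)), hkey⟩
  rcases Nat.eq_zero_or_pos n with h0 | h0
  · exfalso
    rw [h0] at hkey
    simp at hkey
  · exact h0

end Mono

section Val

theorem val_ineq {A K : Type*} [CommRing A] [Field K] [Algebra A K]
    (v : AddValuation K (WithTop ℤ)) (p q : ℕ) (hq : 0 < q)
    (k n : ℕ) (hn : 0 < n) (a : A) (c : ℕ → A)
    (hc : ∀ j, j < n → (((n - j) * k * p : ℕ) : WithTop ℤ) ≤
      (q : WithTop ℤ) * v (algebraMap A K (c j)))
    (heq : a ^ n + ∑ j ∈ Finset.range n, c j * a ^ j = 0) :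
    ((k * p : ℕ) : WithTop ℤ) ≤ (q : WithTop ℤ) * v (algebraMap A K a) := by
  by_contra hlt
  rw [not_le] at hlt
  have hqne : (q : WithTop ℤ) ≠ 0 := by
    exact_mod_cast hq.ne'
  have hα : v (algebraMap A K a) ≠ ⊤ := by
    intro htop
    rw [htop, WithTop.mul_top hqne] at hlt
    exact not_top_lt hlt
  obtain ⟨m, hm⟩ := WithTop.ne_top_iff_exists.mp hα
  rw [← hm] at hlt
  have hlt' : (q : ℤ) * m < (k : ℤ) * p := by
    have : (((q : ℤ) * m : ℤ) : WithTop ℤ) < (((k : ℤ) * p : ℤ) : WithTop ℤ) := by
      push_cast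
      exact_mod_cast hlt
    exact WithTop.coe_lt_coe.mp this
  -- the equation in K
  have heqK : (algebraMap A K a) ^ n =
      - ∑ j ∈ Finset.range n, algebraMap A K (c j) * (algebraMap A K a) ^ j := by
    have h1 := congrArg (algebraMap A K) heq
    rw [map_add, map_zero, map_sum, map_pow] at h1
    rw [eq_neg_iff_add_eq_zero, ← h1]
    congr 1
    refine Finset.sum_congr rfl fun j _ => ?_
    rw [map_mul, map_pow]
  have hval : v ((algebraMap A K a) ^ n) = (((n : ℤ) * m : ℤ) : WithTop ℤ) := by
    rw [AddValuation.map_pow, ← hm, ← WithTop.coe_nsmul, nsmul_eq_mul]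
  have hlt2 : (((n : ℤ) * m : ℤ) : WithTop ℤ) <
      v (∑ j ∈ Finset.range n, algebraMap A K (c j) * (algebraMap A K a) ^ j) := by
    apply AddValuation.map_lt_sum v WithTop.coe_ne_top
    intro j hj
    have hj' : j < n := Finset.mem_range.mp hj
    rw [AddValuation.map_mul, AddValuation.map_pow, ← hm]
    have hcj := hc j hj'
    by_cases htop : v (algebraMap A K (c j)) = ⊤
    · rw [htop, WithTop.top_add]
      exact WithTop.coe_lt_top _
    · obtain ⟨mj, hmj⟩ := WithTop.ne_top_iff_exists.mp htop
      rw [← hmj] at hcj ⊢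
      have hcj' : (((n - j : ℕ) : ℤ) * k * p) ≤ (q : ℤ) * mj := by
        have : (((((n - j : ℕ) : ℤ) * k * p : ℤ)) : WithTop ℤ) ≤ (((q : ℤ) * mj : ℤ) : WithTop ℤ) := by
          push_cast
          exact_mod_cast hcj
        exact WithTop.coe_le_coe.mp this
      have hd : ((n - j : ℕ) : ℤ) = (n : ℤ) - j := by
        rw [Nat.cast_sub hj'.le]
      rw [hd] at hcj'
      have hgoal : (n : ℤ) * m < mj + (j : ℤ) * m := by
        by_contra hcon
        rw [not_lt] at hcon
        have hd1 : (1 : ℤ) ≤ (n : ℤ) - j := by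
          have : (j : ℤ) < n := by exact_mod_cast hj'
          omega
        have hq' : (0 : ℤ) < q := by exact_mod_cast hq
        have e1 : (q : ℤ) * (mj + j * m) ≤ q * (n * m) := mul_le_mul_of_nonneg_left hcon hq'.le
        have e2 : ((n : ℤ) - j) * (q * m + 1) ≤ ((n : ℤ) - j) * (k * p) :=
          mul_le_mul_of_nonneg_left (by omega) (by omega)
        nlinarith
      rw [← WithTop.coe_nsmul, ← WithTop.coe_add, WithTop.coe_lt_coe, nsmul_eq_mul]
      exact hgoal
  rw [heqK, AddValuation.map_neg] at hval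
  rw [hval] at hlt2
  exact lt_irrefl _ hlt2

end Val

end Groth.Agent.Lib.Helper6.ReesIC
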