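import Mathlib
import Groth.Prelude.Def_W4c2filtblowupsingRees
import Groth.Agent.Lib.Helper6.ReesIC.RIa

set_option autoImplicit false
set_option linter.unusedSectionVars false
set_option linter.unusedVariables false
set_option linter.unusedSimpArgs false
set_option linter.style.haveILetI false
set_option maxHeartbeats 400000

namespace Groth.Agent.Lib.Helper6.ReesIC

open Polynomial

attribute [local instance] Polynomial.algebra

universe u

theorem main (A K : Type u) [CommRing A] [IsDomain A] [IsIntegrallyClosed A] [Field K]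
    [Algebra A K]
    (ι : Type) (v : ι → AddValuation K (WithTop ℤ))
    (p q : ι → ℕ) (hq : ∀ i, 0 < q i) (𝓕 : FiltBl.IdealFiltration A)
    (hF : ∀ (k : ℕ) (x : A), x ∈ 𝓕.F k ↔
      ∀ i, ((k * p i : ℕ) : WithTop ℤ) ≤ (q i : WithTop ℤ) * v i (algebraMap A K x)) :
    IsIntegrallyClosed 𝓕.rees := by
  have hinj : Function.Injective (algebraMap 𝓕.rees A[X]) := fun x y h => Subtype.ext h
  haveI : FaithfulSMul 𝓕.rees A[X] := (faithfulSMul_iff_algebraMap_injective _ _).mpr hinj
  haveI : IsIntegrallyClosedIn 𝓕.rees A[X] := by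
    rw [isIntegrallyClosedIn_iff]
    refine ⟨hinj, fun {f} hf => ?_⟩
    suffices hmem : f ∈ 𝓕.rees from ⟨⟨f, hmem⟩, rfl⟩
    intro k
    have h1 : IsIntegral 𝓕.rees[X] (Phi f) := by
      refine isIntegral_map_of_lifts (R := 𝓕.rees) (S := A[X]) (R' := 𝓕.rees[X])
        (S' := A[X][X]) Phi (fun r => ?_) hf
      have hl : Phi (algebraMap 𝓕.rees A[X] r) ∈ Polynomial.lifts (algebraMap 𝓕.rees A[X]) := by
        rw [Polynomial.lifts_iff_coeff_lifts]
        intro j
        rw [Phi_coeff]
        refine ⟨⟨monomial j ((algebraMap 𝓕.rees A[X] r).coeff j), ?_⟩, rfl⟩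
        intro l
        rw [coeff_monomial]
        split_ifs with hjl
        · subst hjl
          exact r.2 j
        · exact Ideal.zero_mem _
      obtain ⟨r', hr'⟩ := (Polynomial.mem_lifts _).mp hl
      exact ⟨r', hr'⟩
    have h2 := h1.coeff k
    rw [Phi_coeff] at h2
    obtain ⟨n, c, hn, hc, heq⟩ := exists_eq_of_isIntegral_monomial 𝓕 k _ h2
    rw [hF]
    intro i
    exact val_ineq (v i) (p i) (q i) (hq i) k n hn _ c
      (fun j hj => (hF _ _).1 (hc j hj) i) heq
  exact IsIntegrallyClosed.of_isIntegrallyClosed_of_isIntegrallyClosedIn 𝓕.rees A[X]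

end Groth.Agent.Lib.Helper6.ReesIC
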